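import Groth.Agent.Lib.ConsH13.IndCons
import Mathlib.Topology.Spectral.ConstructibleTopology
import Mathlib.AlgebraicGeometry.Morphisms.QuasiSeparated

/-!
# Ind- and pro-constructible sets against the constructible topology
-/

set_option autoImplicit false
set_option linter.style.haveILetI false

universe u

open CategoryTheory AlgebraicGeometry Topology TopologicalSpace ProCons

namespace Groth.Agent.ConsTop3

local notation "τ" => constructibleTopology

section Top

variable {X Y : Type*} [TopologicalSpace X] [TopologicalSpace Y]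

theorem compl_swap_pro {T : Set X} (hT : IsIndConstructible T) : IsProConstructible Tᶜ := by
  intro x
  obtain ⟨U, hU, hxU, S, hS, hTS⟩ := hT x
  refine ⟨U, hU, hxU, compl '' S, ?_, by rw [Set.preimage_compl, hTS, Set.compl_sUnion]⟩
  rintro _ ⟨t, ht, rfl⟩
  intro z
  obtain ⟨V, hVz, hV, hVt⟩ := hS t ht z
  exact ⟨V, hVz, hV, by rw [Set.preimage_compl]; exact isConstructible_compl.2 hVt⟩

theorem isIndConstructible_compl_iff {T : Set X} : IsIndConstructible Tᶜ ↔ IsProConstructible T :=
  ⟨fun h => by simpa using compl_swap_pro h, ConsH13.isIndConstructible_compl⟩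

theorem isProConstructible_compl_iff {T : Set X} : IsProConstructible Tᶜ ↔ IsIndConstructible T := by
  rw [← isIndConstructible_compl_iff, compl_compl]

theorem isIndConstructible_of_forall_exists {E : Set X}
    (h : ∀ p ∈ E, ∃ C : Set X, IsConstructible C ∧ p ∈ C ∧ C ⊆ E) : IsIndConstructible E := by
  intro x
  refine ⟨Set.univ, isOpen_univ, trivial,
    {T | IsLocallyConstructible T ∧ T ⊆ Subtype.val ⁻¹' E}, fun T hT => hT.1, ?_⟩
  refine subset_antisymm (fun y hy => ?_) (Set.sUnion_subset fun T hT => hT.2)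
  obtain ⟨C, hC, hyC, hCE⟩ := h y.1 hy
  exact Set.mem_sUnion.2 ⟨Subtype.val ⁻¹' C,
    ⟨(hC.preimage_of_isOpenEmbedding isOpen_univ.isOpenEmbedding_subtypeVal).isLocallyConstructible,
      Set.preimage_mono hCE⟩, hyC⟩

theorem isIndConstructible_of_isLocallyConstructible {E : Set X} (h : IsLocallyConstructible E) :
    IsIndConstructible E := fun x =>
  ⟨Set.univ, isOpen_univ, trivial, {Subtype.val ⁻¹' E}, by
    rintro _ rfl
    exact h.preimage_of_isOpenEmbedding isOpen_univ.isOpenEmbedding_subtypeVal, (Set.sUnion_singleton _).symm⟩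

theorem isProConstructible_of_isLocallyConstructible {E : Set X} (h : IsLocallyConstructible E) :
    IsProConstructible E := fun x =>
  ⟨Set.univ, isOpen_univ, trivial, {Subtype.val ⁻¹' E}, by
    rintro _ rfl
    exact h.preimage_of_isOpenEmbedding isOpen_univ.isOpenEmbedding_subtypeVal, (Set.sInter_singleton _).symm⟩

theorem isOpen_of_isConstructible [CompactSpace X] {s : Set X} (hs : IsConstructible s) :
    IsOpen[τ X] s := by
  suffices IsOpen[τ X] s ∧ IsOpen[τ X] sᶜ from this.1
  induction hs using IsConstructible.empty_union_induction with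
  | open_retrocompact U hU hU' =>
    exact ⟨(hU'.isCompact).isOpen_constructibleTopology_of_isOpen hU,
      IsCompact.isOpen_constructibleTopology_of_isClosed (by rw [compl_compl]; exact hU'.isCompact) hU.isClosed_compl⟩
  | union s hs t ht hs' ht' =>
    letI := τ X
    exact ⟨hs'.1.union ht'.1, by rw [Set.compl_union]; exact hs'.2.inter ht'.2⟩
  | compl s hs hs' => exact ⟨hs'.2, by rw [compl_compl]; exact hs'.1⟩

theorem isConstructible_of_mem_subbasis [QuasiSeparatedSpace X] {s : Set X}
    (hs : s ∈ constructibleTopologySubbasis X) : IsConstructible s := by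
  rcases hs with ⟨ho, hc⟩ | ⟨ho, hc⟩
  · exact (hc.isRetrocompact ho).isConstructible ho
  · exact isConstructible_compl.1 ((hc.isRetrocompact ho.isOpen_compl).isConstructible ho.isOpen_compl)

/-- In a qcqs space, opens of the constructible topology are the unions of constructible sets. -/
theorem isOpen_iff_exists [CompactSpace X] [QuasiSeparatedSpace X] {E : Set X} :
    IsOpen[τ X] E ↔ ∀ p ∈ E, ∃ C : Set X, IsConstructible C ∧ p ∈ C ∧ C ⊆ E := by
  constructor
  · intro h
    change GenerateOpen (constructibleTopologySubbasis X) E at h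
    induction h with
    | basic s hs => exact fun p hp => ⟨s, isConstructible_of_mem_subbasis hs, hp, subset_rfl⟩
    | univ => exact fun p hp => ⟨Set.univ, IsConstructible.univ, hp, subset_rfl⟩
    | inter s t _ _ hs ht =>
      intro p hp
      obtain ⟨C, hC, hpC, hCs⟩ := hs p hp.1
      obtain ⟨D, hD, hpD, hDt⟩ := ht p hp.2
      exact ⟨C ∩ D, hC.inter hD, ⟨hpC, hpD⟩, Set.inter_subset_inter hCs hDt⟩
    | sUnion S _ hS =>
      intro p hp
      obtain ⟨s, hs, hps⟩ := Set.mem_sUnion.1 hp
      obtain ⟨C, hC, hpC, hCs⟩ := hS s hs p hps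
      exact ⟨C, hC, hpC, hCs.trans (Set.subset_sUnion_of_mem hs)⟩
  · intro h
    have hop : ∀ C : Set X, IsConstructible C → IsOpen[τ X] C := fun C hC => isOpen_of_isConstructible hC
    letI := τ X
    refine isOpen_iff_forall_mem_open.2 fun p hp => ?_
    obtain ⟨C, hC, hpC, hCE⟩ := h p hp
    exact ⟨C, hCE, hop C hC, hpC⟩

theorem compactSpace_top [CompactSpace X] [QuasiSober X] [PrespectralSpace X] [QuasiSeparatedSpace X] :
    @CompactSpace X (τ X) := by
  have h : IsCompact (Set.univ : Set (WithConstructibleTopology X)) := isCompact_univ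
  have h' := @IsCompact.image (WithConstructibleTopology X) X _ (τ X) _ _ h (WithTopology.continuous_ofTopology (τ X))
  rw [Set.image_univ, (WithTopology.ofTopology_surjective (τ X)).range_eq] at h'
  exact @CompactSpace.mk X (τ X) h'

theorem t2Space_top [CompactSpace X] [T0Space X] [PrespectralSpace X] : @T2Space X (τ X) := by
  have key : ∀ x y : X, ∀ U : Set X, IsOpen U → IsCompact U → x ∈ U → y ∉ U →
      ∃ u v : Set X, IsOpen[τ X] u ∧ IsOpen[τ X] v ∧ x ∈ u ∧ y ∈ v ∧ Disjoint u v := fun x y U hU hUc hx hy =>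
    ⟨U, Uᶜ, hUc.isOpen_constructibleTopology_of_isOpen hU,
      IsCompact.isOpen_constructibleTopology_of_isClosed (by rwa [compl_compl]) hU.isClosed_compl,
      hx, hy, disjoint_compl_right⟩
  refine @T2Space.mk X (τ X) fun x y hxy => ?_
  obtain ⟨U, hU, hU'⟩ := exists_isOpen_xor'_mem hxy
  rcases hU' with ⟨hx, hy⟩ | ⟨hy, hx⟩
  · obtain ⟨V, ⟨hVo, hVc⟩, hxV, hVU⟩ := PrespectralSpace.isTopologicalBasis.exists_subset_of_mem_open hx hU
    exact key x y V hVo hVc hxV fun h => hy (hVU h)
  · obtain ⟨V, ⟨hVo, hVc⟩, hyV, hVU⟩ := PrespectralSpace.isTopologicalBasis.exists_subset_of_mem_open hy hU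
    obtain ⟨u, v, hu, hv, hyu, hxv, hd⟩ := key y x V hVo hVc hyV fun h => hx (hVU h)
    exact ⟨v, u, hv, hu, hxv, hyu, hd.symm⟩

end Top

end Groth.Agent.ConsTop3
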