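import Groth.Agent.Lib.ConsTop3.Scheme
import Mathlib.RingTheory.Spectrum.Prime.Chevalley
import Mathlib.RingTheory.LocalRing.ResidueField.Ideal

/-!
# Pro-constructible sets as images of affine schemes
-/

set_option autoImplicit false
set_option linter.style.haveILetI false

universe u

open CategoryTheory AlgebraicGeometry Topology TopologicalSpace ProCons

namespace Groth.Agent.ConsTop3

/-- The map to the product of the residue fields at the points of `E`. -/
noncomputable def toProd {A : Type u} [CommRing A] (E : Set (PrimeSpectrum A)) :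
    A →+* ∀ p : E, p.1.asIdeal.ResidueField :=
  RingHom.pi fun p => algebraMap A p.1.asIdeal.ResidueField

/-- A set which is separated from its complement by basic constructible sets is the image of the
spectrum of the product of its residue fields. -/
theorem range_comap_toProd {A : Type u} [CommRing A] {E : Set (PrimeSpectrum A)}
    (hE : ∀ p ∉ E, ∃ C : Set (PrimeSpectrum A), IsConstructible C ∧ p ∈ C ∧ Disjoint C E) :
    Set.range (PrimeSpectrum.comap (toProd E)) = E := by
  refine subset_antisymm ?_ fun p hp => ?_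
  · rintro _ ⟨q, rfl⟩
    by_contra hqE
    obtain ⟨C, hC, hqC, hd⟩ := hE _ hqE
    obtain ⟨D, hD⟩ := PrimeSpectrum.exists_constructibleSetData_iff.2 hC
    obtain ⟨d, hdD, hqd⟩ := Set.mem_iUnion₂.1
      (show PrimeSpectrum.comap (toProd E) q ∈ D.toSet from hD.symm ▸ hqC)
    obtain ⟨hg, hf⟩ := hqd
    refine hf ?_
    rw [PrimeSpectrum.mem_zeroLocus, Set.singleton_subset_iff]
    change toProd E d.f ∈ q.asIdeal
    have hg' : ∀ i, toProd E (d.g i) ∈ q.asIdeal := fun i => hg ⟨i, rfl⟩
    have key : ∀ p : E, ∃ c : Fin d.n → p.1.asIdeal.ResidueField,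
        toProd E d.f p = ∑ i, c i * toProd E (d.g i) p := by
      classical
      intro p
      by_cases hp0 : toProd E d.f p = 0
      · exact ⟨0, by simp [hp0]⟩
      have : ∃ i, toProd E (d.g i) p ≠ 0 := by
        by_contra h
        push Not at h
        refine Set.disjoint_left.1 hd ((hD ▸ Set.mem_iUnion₂.2 ⟨d, hdD, ?_⟩ : p.1 ∈ C)) p.2
        refine ⟨?_, fun h' => hp0 ?_⟩
        · rintro _ ⟨i, rfl⟩
          exact Ideal.algebraMap_residueField_eq_zero.1 (h i)
        · exact Ideal.algebraMap_residueField_eq_zero.2 (h' (Set.mem_singleton d.f))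
      obtain ⟨i, hi⟩ := this
      refine ⟨Pi.single i (toProd E d.f p / toProd E (d.g i) p), ?_⟩
      rw [Finset.sum_eq_single i (fun j _ hj => by simp [hj]) (by simp), Pi.single_eq_same, div_mul_cancel₀ _ hi]
    choose c hc using key
    rw [show toProd E d.f = ∑ i, (fun p => c p i) * toProd E (d.g i) from funext fun p => by
      simp [hc p, Finset.sum_apply]]
    exact Ideal.sum_mem _ fun i _ => Ideal.mul_mem_left _ _ (hg' i)
  · let ev : (∀ p : E, p.1.asIdeal.ResidueField) →+* p.asIdeal.ResidueField :=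
      Pi.evalRingHom (fun p : E => p.1.asIdeal.ResidueField) ⟨p, hp⟩
    refine ⟨PrimeSpectrum.comap ev ⟨⊥, Ideal.isPrime_bot⟩, PrimeSpectrum.ext ?_⟩
    ext a
    simp only [PrimeSpectrum.comap_asIdeal, Ideal.mem_comap, Ideal.mem_bot]
    exact Ideal.algebraMap_residueField_eq_zero

/-- A pro-constructible subset of a qcqs scheme is the image of an affine scheme. -/
theorem exists_affine_range_eq {X : Scheme.{u}} [CompactSpace X] [QuasiSeparatedSpace X] {E : Set X}
    (hE : IsProConstructible E) : ∃ (X' : Scheme.{u}) (f : X' ⟶ X), IsAffine X' ∧ Set.range f = E := by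
  obtain ⟨t, ht⟩ := exists_finite_affine_cover (X := X)
  let Z : t → Scheme.{u} := fun U => Spec (CommRingCat.of
    (∀ p : (U.1.2.fromSpec ⁻¹' E : Set (PrimeSpectrum Γ(X, U.1.1))), p.1.asIdeal.ResidueField))
  let g : ∀ U, Z U ⟶ X := fun U =>
    Spec.map (CommRingCat.ofHom (toProd (U.1.2.fromSpec ⁻¹' E : Set (PrimeSpectrum Γ(X, U.1.1))))) ≫ U.1.2.fromSpec
  have : ∀ U, IsAffine (Z U) := fun U => inferInstanceAs (IsAffine (Spec _))
  refine ⟨∐ Z, Limits.Sigma.desc g, inferInstance, ?_⟩
  have hr : ∀ U, Set.range (g U) = Set.range U.1.2.fromSpec ∩ E := fun U => by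
    change Set.range (U.1.2.fromSpec ∘ PrimeSpectrum.comap _) = _
    rw [Set.range_comp, CommRingCat.hom_ofHom]
    erw [range_comap_toProd fun p hp =>
      isProConstructible_iff_exists.1 (ConsH13.isProConstructible_preimage U.1.2.fromSpec hE) p hp]
    exact Set.image_preimage_eq_range_inter
  ext x
  constructor
  · rintro ⟨z, rfl⟩
    obtain ⟨U, y, rfl⟩ := (sigmaOpenCover Z).exists_eq z
    have : (Limits.Sigma.desc g) (((sigmaOpenCover Z).f U) y) = g U y :=
      congrArg (fun φ : Z U ⟶ X => φ y) (Limits.Sigma.ι_desc g U)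
    rw [this]
    exact ((hr U).le ⟨y, rfl⟩).2
  · intro hx
    obtain ⟨U, hUt, hxU⟩ := ht x
    obtain ⟨y, hy⟩ := (hr ⟨U, hUt⟩).ge ⟨by rw [U.2.range_fromSpec]; exact hxU, hx⟩
    exact ⟨Limits.Sigma.ι Z ⟨U, hUt⟩ y,
      (congrArg (fun φ : Z ⟨U, hUt⟩ ⟶ X => φ y) (Limits.Sigma.ι_desc g _)).trans hy⟩

end Groth.Agent.ConsTop3

namespace Groth.Agent.ConsTop3

theorem exists_finitePresentation_basic {A : Type u} [CommRing A] (d : PrimeSpectrum.BasicConstructibleSetData A) :
    ∃ (B : Type u) (_ : CommRing B) (φ : A →+* B), φ.FinitePresentation ∧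
      Set.range (PrimeSpectrum.comap φ) = d.toSet := by
  let m := Ideal.Quotient.mk (Ideal.span (Set.range d.g))
  refine ⟨Localization.Away (m d.f), inferInstance, (algebraMap _ (Localization.Away (m d.f))).comp m, ?_, ?_⟩
  · exact RingHom.FinitePresentation.comp
      (RingHom.finitePresentation_algebraMap.2 (IsLocalization.Away.finitePresentation (m d.f)))
      (RingHom.FinitePresentation.of_surjective _ Ideal.Quotient.mk_surjective
        (by rw [Ideal.mk_ker]; exact Submodule.fg_span (Set.finite_range _)))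
  · rw [PrimeSpectrum.comap_comp, Set.range_comp, PrimeSpectrum.localization_away_comap_range _ (m d.f)]
    ext p
    constructor
    · rintro ⟨q, hq, rfl⟩
      refine ⟨?_, fun h => hq (h (Set.mem_singleton d.f))⟩
      rintro _ ⟨i, rfl⟩
      show m (d.g i) ∈ q.asIdeal
      rw [show m (d.g i) = 0 from Ideal.Quotient.eq_zero_iff_mem.2 (Ideal.subset_span (Set.mem_range_self i))]
      exact zero_mem _
    · rintro ⟨hg, hf⟩
      have : p ∈ Set.range (PrimeSpectrum.comap m) := by
        rw [range_comap_of_surjective _ _ Ideal.Quotient.mk_surjective, Ideal.mk_ker]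
        exact fun a ha => Ideal.span_le.2 hg ha
      obtain ⟨q, rfl⟩ := this
      exact ⟨q, fun h => hf (Set.singleton_subset_iff.2 h), rfl⟩

/-- A constructible subset of a qcqs scheme is the image of an affine scheme of finite presentation. -/
theorem exists_affine_finitePresentation {X : Scheme.{u}} [CompactSpace X] [QuasiSeparatedSpace X] {E : Set X}
    (hE : IsConstructible E) : ∃ (X' : Scheme.{u}) (f : X' ⟶ X), IsAffine X' ∧
      LocallyOfFinitePresentation f ∧ Set.range f = E := by
  obtain ⟨t, ht⟩ := exists_finite_affine_cover (X := X)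
  choose D hD using fun U : t => PrimeSpectrum.exists_constructibleSetData_iff.2
    (hE.preimage_of_isOpenEmbedding U.1.2.fromSpec.isOpenEmbedding)
  let ι := Σ U : t, D U
  choose B hB φ hfp hr using fun o : ι => exists_finitePresentation_basic o.2.1
  let Z : ι → Scheme.{u} := fun o => Spec (CommRingCat.of (B o))
  let g : ∀ o, Z o ⟶ X := fun o => Spec.map (CommRingCat.ofHom (φ o)) ≫ o.1.1.2.fromSpec
  have : ∀ o, IsAffine (Z o) := fun o => inferInstanceAs (IsAffine (Spec _))
  have hg : ∀ o, LocallyOfFinitePresentation (g o) := fun o => by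
    have : LocallyOfFinitePresentation (Spec.map (CommRingCat.ofHom (φ o))) :=
      (HasRingHomProperty.Spec_iff (P := @LocallyOfFinitePresentation)).2 (hfp o)
    infer_instance
  refine ⟨∐ Z, Limits.Sigma.desc g, inferInstance, IsZariskiLocalAtSource.sigmaDesc hg, ?_⟩
  have hr' : ∀ o, Set.range (g o) = o.1.1.2.fromSpec '' o.2.1.toSet := fun o => by
    change Set.range (o.1.1.2.fromSpec ∘ PrimeSpectrum.comap _) = _
    rw [Set.range_comp]
    congr 1
    exact hr o
  ext x
  constructor
  · rintro ⟨z, rfl⟩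
    obtain ⟨o, y, rfl⟩ := (sigmaOpenCover Z).exists_eq z
    have : (Limits.Sigma.desc g) (((sigmaOpenCover Z).f o) y) = g o y :=
      congrArg (fun φ : Z o ⟶ X => φ y) (Limits.Sigma.ι_desc g o)
    rw [this]
    obtain ⟨q, hq, hqy⟩ := (hr' o).le ⟨y, rfl⟩
    rw [← hqy]
    exact (hD o.1).le (Set.mem_iUnion₂.2 ⟨o.2.1, o.2.2, hq⟩)
  · intro hx
    obtain ⟨U, hUt, hxU⟩ := ht x
    obtain ⟨q, rfl⟩ : x ∈ Set.range U.2.fromSpec := by rw [U.2.range_fromSpec]; exact hxU
    obtain ⟨d, hd, hqd⟩ := Set.mem_iUnion₂.1 ((hD ⟨U, hUt⟩).ge hx)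
    let o : ι := ⟨⟨U, hUt⟩, ⟨d, hd⟩⟩
    obtain ⟨y, hy⟩ := (hr' o).ge ⟨q, hqd, rfl⟩
    exact ⟨Limits.Sigma.ι Z o y,
      (congrArg (fun φ : Z _ ⟶ X => φ y) (Limits.Sigma.ι_desc g _)).trans hy⟩

end Groth.Agent.ConsTop3
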