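import Groth.Agent.Lib.ConsTop3.Basic
import Mathlib.AlgebraicGeometry.Properties

/-!
# Constructible topology on schemes
-/

set_option autoImplicit false
set_option linter.style.haveILetI false

universe u

open CategoryTheory AlgebraicGeometry Topology TopologicalSpace ProCons

namespace Groth.Agent.ConsTop3

local notation "τ" => constructibleTopology

variable {X Y : Scheme.{u}}

theorem isIndConstructible_iff_exists [CompactSpace X] [QuasiSeparatedSpace X] {E : Set X} :
    IsIndConstructible E ↔ ∀ p ∈ E, ∃ C : Set X, IsConstructible C ∧ p ∈ C ∧ C ⊆ E := by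
  refine ⟨fun h p hp => ?_, isIndConstructible_of_forall_exists⟩
  obtain ⟨W, hW, hpW, -⟩ := exists_isAffineOpen_mem_and_subset (X := X) (x := p) (U := ⊤) trivial
  obtain ⟨q, rfl⟩ : p ∈ Set.range hW.fromSpec := by rw [hW.range_fromSpec]; exact hpW
  obtain ⟨C, hC, hqC, hCE⟩ :=
    ConsH13.exists_constructible_of_isIndConstructible (ConsH13.isIndConstructible_preimage hW.fromSpec h) (p := q) hp
  refine ⟨hW.fromSpec '' C, hC.image_of_isOpenEmbedding hW.fromSpec.isOpenEmbedding ?_, ⟨q, hqC, rfl⟩,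
    Set.image_subset_iff.2 hCE⟩
  rw [hW.range_fromSpec]
  exact hW.isCompact.isRetrocompact W.2

theorem isIndConstructible_iff_isOpen [CompactSpace X] [QuasiSeparatedSpace X] {E : Set X} :
    IsIndConstructible E ↔ IsOpen[τ X] E :=
  isIndConstructible_iff_exists.trans isOpen_iff_exists.symm

theorem isProConstructible_iff_isClosed [CompactSpace X] [QuasiSeparatedSpace X] {E : Set X} :
    IsProConstructible E ↔ IsClosed[τ X] E := by
  rw [← isIndConstructible_compl_iff, isIndConstructible_iff_isOpen]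
  exact ⟨fun h => @IsClosed.mk X (τ X) E h, fun h => @IsClosed.isOpen_compl X (τ X) E h⟩

theorem isProConstructible_iff_exists [CompactSpace X] [QuasiSeparatedSpace X] {E : Set X} :
    IsProConstructible E ↔ ∀ p ∉ E, ∃ C : Set X, IsConstructible C ∧ p ∈ C ∧ Disjoint C E := by
  rw [← isIndConstructible_compl_iff, isIndConstructible_iff_exists]
  simp [Set.subset_compl_iff_disjoint_right]

theorem isProConstructible_iff_sInter [CompactSpace X] [QuasiSeparatedSpace X] {E : Set X} :
    IsProConstructible E ↔ ∃ S : Set (Set X), (∀ s ∈ S, IsConstructible s) ∧ E = ⋂₀ S := by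
  rw [isProConstructible_iff_exists]
  constructor
  · intro h
    refine ⟨{s | IsConstructible s ∧ E ⊆ s}, fun s hs => hs.1, subset_antisymm (fun p hp s hs => hs.2 hp) fun p hp => ?_⟩
    by_contra hpE
    obtain ⟨C, hC, hpC, hd⟩ := h p hpE
    exact hp Cᶜ ⟨hC.compl, Set.subset_compl_iff_disjoint_left.2 hd⟩ hpC
  · rintro ⟨S, hS, rfl⟩ p hp
    simp only [Set.mem_sInter, not_forall] at hp
    obtain ⟨s, hs, hps⟩ := hp
    exact ⟨sᶜ, (hS s hs).compl, hps, disjoint_compl_left.mono_right (Set.sInter_subset_of_mem hs)⟩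

theorem isConstructible_of_isClopen [CompactSpace X] [QuasiSeparatedSpace X] {E : Set X}
    (ho : IsOpen[τ X] E) (hc : IsClosed[τ X] E) : IsConstructible E := by
  have h := isOpen_iff_exists.1 ho
  choose C hC hpC hCE using h
  have hop : ∀ s : Set X, IsConstructible s → IsOpen[τ X] s := fun s hs => isOpen_of_isConstructible hs
  have hcomp : @IsCompact X (τ X) E :=
    @IsClosed.isCompact X (τ X) E (compactSpace_top (X := X)) hc
  obtain ⟨t, ht⟩ := @IsCompact.elim_finite_subcover X (τ X) E E hcomp (fun p : E => C p.1 p.2)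
    (fun p => hop _ (hC _ _)) fun p hp => Set.mem_iUnion.2 ⟨⟨p, hp⟩, hpC p hp⟩
  rw [show E = ⋃ p ∈ t, C p.1 p.2 from subset_antisymm ht (Set.iUnion₂_subset fun p _ => hCE _ _)]
  exact IsConstructible.biUnion t.finite_toSet fun p _ => hC _ _

theorem isIndConstructible_of_forall_affine {E : Set X}
    (h : ∀ (U : X.Opens) (hU : IsAffineOpen U), IsIndConstructible (hU.fromSpec ⁻¹' E)) :
    IsIndConstructible E := by
  intro x
  obtain ⟨U, hU, hxU, -⟩ := exists_isAffineOpen_mem_and_subset (X := X) (x := x) (U := ⊤) trivial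
  refine ⟨U, U.2, hxU, {T | IsLocallyConstructible T ∧ T ⊆ Subtype.val ⁻¹' E}, fun T hT => hT.1, ?_⟩
  refine subset_antisymm (fun y hy => ?_) (Set.sUnion_subset fun T hT => hT.2)
  have hσ : ∀ z : U, hU.fromSpec (hU.isoSpec.hom z) = z.1 := ConsH13.fromSpec_isoSpec_hom hU
  obtain ⟨C, hC, hyC, hCE⟩ := ConsH13.exists_constructible_of_isIndConstructible (h U hU)
    (p := hU.isoSpec.hom y) (show hU.fromSpec (hU.isoSpec.hom y) ∈ E from (hσ y).symm ▸ hy)
  refine Set.mem_sUnion.2 ⟨hU.isoSpec.hom ⁻¹' C,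
    ⟨(hC.preimage_of_isOpenEmbedding hU.isoSpec.hom.isOpenEmbedding).isLocallyConstructible,
      fun z hz => ?_⟩, hyC⟩
  have := hCE hz
  rw [Set.mem_preimage, hσ z] at this
  exact this

theorem isProConstructible_of_forall_affine {E : Set X}
    (h : ∀ (U : X.Opens) (hU : IsAffineOpen U), IsProConstructible (hU.fromSpec ⁻¹' E)) :
    IsProConstructible E := by
  rw [← isIndConstructible_compl_iff]
  exact isIndConstructible_of_forall_affine fun U hU => by
    rw [Set.preimage_compl, isIndConstructible_compl_iff]; exact h U hU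

theorem isLocallyConstructible_iff {E : Set X} :
    IsLocallyConstructible E ↔ IsIndConstructible E ∧ IsProConstructible E := by
  refine ⟨fun h => ⟨isIndConstructible_of_isLocallyConstructible h,
    isProConstructible_of_isLocallyConstructible h⟩, fun ⟨hi, hp⟩ => ?_⟩
  refine ConsH13.isLocallyConstructible_of_affine E fun A σ _ => ?_
  exact isConstructible_of_isClopen
    (isIndConstructible_iff_isOpen.1 (ConsH13.isIndConstructible_preimage σ hi))
    (isProConstructible_iff_isClosed.1 (ConsH13.isProConstructible_preimage σ hp))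

/-- A morphism of qcqs schemes is continuous for the constructible topologies. -/
theorem continuous_of_qcqs [CompactSpace X] [QuasiSeparatedSpace X] [CompactSpace Y] [QuasiSeparatedSpace Y]
    (f : X ⟶ Y) : Continuous[τ X, τ Y] f :=
  @Continuous.mk X Y (τ X) (τ Y) f fun _ hs => isIndConstructible_iff_isOpen.1
    (ConsH13.isIndConstructible_preimage f (isIndConstructible_iff_isOpen.2 hs))

theorem exists_finite_affine_cover [CompactSpace X] :
    ∃ t : Finset X.affineOpens, ∀ x : X, ∃ U ∈ t, x ∈ (U : X.Opens) := by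
  obtain ⟨t, ht⟩ := (isCompact_univ (X := X)).elim_finite_subcover (fun U : X.affineOpens => (U.1 : Set X))
    (fun U => U.1.2) fun x _ => by
    obtain ⟨U, hU, hxU, -⟩ := exists_isAffineOpen_mem_and_subset (X := X) (x := x) (U := ⊤) trivial
    exact Set.mem_iUnion.2 ⟨⟨U, hU⟩, hxU⟩
  exact ⟨t, fun x => by simpa using ht (Set.mem_univ x)⟩

/-- Finite intersection property of pro-constructible sets against ind-constructible sets, on a qc scheme. -/
theorem exists_finite_inter_subset [CompactSpace X] {E : Set X} (hE : IsIndConstructible E) {ι : Type*}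
    (F : ι → Set X) (hF : ∀ i, IsProConstructible (F i)) (h : ⋂ i, F i ⊆ E) :
    ∃ J : Finset ι, ⋂ i ∈ J, F i ⊆ E := by
  classical
  obtain ⟨t, ht⟩ := exists_finite_affine_cover (X := X)
  have key : ∀ U : X.affineOpens, ∃ J : Finset ι, ∀ q, (∀ i ∈ J, U.2.fromSpec q ∈ F i) → U.2.fromSpec q ∈ E := by
    intro U
    have hcl : ∀ o : Option ι, IsClosed[τ (Spec Γ(X, U.1))] (o.elim (U.2.fromSpec ⁻¹' Eᶜ) fun i => U.2.fromSpec ⁻¹' F i) := by
      rintro (_ | i)
      · exact isProConstructible_iff_isClosed.1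
          (ConsH13.isProConstructible_preimage _ (isProConstructible_compl_iff.2 hE))
      · exact isProConstructible_iff_isClosed.1 (ConsH13.isProConstructible_preimage _ (hF i))
    obtain ⟨J, hJ⟩ := @IsCompact.elim_finite_subfamily_closed (Spec Γ(X, U.1)) (τ _) Set.univ _
      (@isCompact_univ (Spec Γ(X, U.1)) (τ _) compactSpace_top) _ hcl (by
        rw [Set.univ_inter]
        refine Set.eq_empty_of_forall_notMem fun q hq => (Set.mem_iInter.1 hq none) ?_
        exact h (Set.mem_iInter.2 fun i => Set.mem_iInter.1 hq (some i)))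
    refine ⟨J.preimage some (Option.some_injective _).injOn, fun q hq => ?_⟩
    by_contra hqE
    refine (Set.eq_empty_iff_forall_notMem.1 hJ) q ⟨trivial, Set.mem_iInter₂.2 ?_⟩
    rintro (_ | i) hi
    · exact hqE
    · exact hq i (Finset.mem_preimage.2 hi)
  choose J hJ using key
  refine ⟨t.biUnion J, fun x hx => ?_⟩
  obtain ⟨U, hUt, hxU⟩ := ht x
  obtain ⟨q, rfl⟩ : x ∈ Set.range U.2.fromSpec := by rw [U.2.range_fromSpec]; exact hxU
  exact hJ U q fun i hi => Set.mem_iInter₂.1 hx i (Finset.mem_biUnion.2 ⟨U, hUt, hi⟩)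

/-- Quasi-compact images of pro-constructible sets are pro-constructible. -/
theorem isProConstructible_image (f : X ⟶ Y) [QuasiCompact f] {E : Set X} (hE : IsProConstructible E) :
    IsProConstructible (f '' E) := by
  refine isProConstructible_of_forall_affine fun V hV => ?_
  rw [isProConstructible_iff_exists]
  intro p hp
  -- every point of the preimage of an affine open is captured by one of finitely many affine charts
  have : CompactSpace (f ⁻¹ᵁ V).toScheme := isCompact_iff_compactSpace.1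
    (f.isCompact_preimage hV.isCompact)
  obtain ⟨t, ht⟩ := exists_finite_affine_cover (X := (f ⁻¹ᵁ V).toScheme)
  have key : ∀ U : (f ⁻¹ᵁ V).toScheme.affineOpens, ∃ C : Set (Spec Γ(Y, V)), IsConstructible C ∧ p ∈ C ∧
      ∀ z, z ∈ (U : (f ⁻¹ᵁ V).toScheme.Opens) → z.1 ∈ E → ∀ q ∈ C, hV.fromSpec q ≠ f z.1 := by
    intro U
    let g : Spec Γ((f ⁻¹ᵁ V).toScheme, U.1) ⟶ Spec Γ(Y, V) := U.2.fromSpec ≫ (f ∣_ V) ≫ hV.isoSpec.hom
    have hE' : IsClosed[τ _] ((U.2.fromSpec ≫ (f ⁻¹ᵁ V).ι) ⁻¹' E) :=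
      isProConstructible_iff_isClosed.1 (ConsH13.isProConstructible_preimage _ hE)
    have hg : ∀ z, hV.fromSpec (g z) = f ((U.2.fromSpec ≫ (f ⁻¹ᵁ V).ι) z) := fun z => by
      change hV.fromSpec (hV.isoSpec.hom ((f ∣_ V) (U.2.fromSpec z))) = _
      rw [ConsH13.fromSpec_isoSpec_hom, ConsH13.restrict_apply]
      rfl
    have hcl : IsClosed[τ _] (g '' ((U.2.fromSpec ≫ (f ⁻¹ᵁ V).ι) ⁻¹' E)) := by
      have hc : @IsCompact _ (τ _) (g '' ((U.2.fromSpec ≫ (f ⁻¹ᵁ V).ι) ⁻¹' E)) :=
        @IsCompact.image _ _ (τ _) (τ _) _ _ (@IsClosed.isCompact _ (τ _) _ compactSpace_top hE')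
          (continuous_of_qcqs g)
      exact @IsCompact.isClosed _ (τ _) t2Space_top _ hc
    obtain ⟨C, hC, hpC, hd⟩ := isProConstructible_iff_exists.1 (isProConstructible_iff_isClosed.2 hcl) p (by
      rintro ⟨z, hz, hzp⟩
      exact hp ⟨_, hz, (hg z).symm.trans (congrArg _ hzp)⟩)
    refine ⟨C, hC, hpC, fun z hzU hzE q hq hqz => ?_⟩
    obtain ⟨z', hz'⟩ : z ∈ Set.range U.2.fromSpec := by rw [U.2.range_fromSpec]; exact hzU
    have hzz : (U.2.fromSpec ≫ (f ⁻¹ᵁ V).ι) z' = z.1 := by rw [← hz']; rfl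
    have hq' : g z' = q := hV.fromSpec.isOpenEmbedding.injective (by rw [hg, hzz, hqz])
    exact Set.disjoint_left.1 hd hq ⟨z', show (U.2.fromSpec ≫ (f ⁻¹ᵁ V).ι) z' ∈ E from hzz ▸ hzE, hq'⟩
  choose C hC hpC hCd using key
  refine ⟨⋂ U ∈ t, C U, IsConstructible.biInter t.finite_toSet fun U _ => hC U, Set.mem_iInter₂.2 fun U _ => hpC U,
    Set.disjoint_left.2 fun q hq hqE => ?_⟩
  obtain ⟨x, hxE, hx⟩ := hqE
  have hxV : x ∈ f ⁻¹ᵁ V := by
    change f x ∈ (V : Set Y)
    rw [hx, ← hV.range_fromSpec]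
    exact ⟨q, rfl⟩
  obtain ⟨U, hUt, hxU⟩ := ht ⟨x, hxV⟩
  exact hCd U ⟨x, hxV⟩ hxU hxE q (Set.mem_iInter₂.1 hq U hUt) hx.symm

end Groth.Agent.ConsTop3
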