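import Groth.Agent.Lib.ConsTop3.Scheme
import Mathlib.Topology.Maps.Proper.CompactlyGenerated

/-!
# Constructible topology on quasi-separated schemes
-/

set_option autoImplicit false
set_option linter.style.haveILetI false

universe u

open CategoryTheory AlgebraicGeometry Topology TopologicalSpace ProCons

namespace Groth.Agent.ConsTop3

local notation "τ" => constructibleTopology

variable {X Y : Scheme.{u}}

/-- The chart of a quasi-compact open is open for the constructible topology. -/
theorem isOpen_image_of_compact_range [QuasiSeparatedSpace X] (j : Y ⟶ X) [IsOpenImmersion j]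
    [CompactSpace Y] {s : Set Y} (hs : IsOpen[τ Y] s) : IsOpen[τ X] (j '' s) := by
  have hr : IsCompact (Set.range j) := isCompact_range j.continuous
  have hro : IsOpen (Set.range j) := j.isOpenEmbedding.isOpen_range
  have hrτ : IsOpen[τ X] (Set.range j) := hr.isOpen_constructibleTopology_of_isOpen hro
  change GenerateOpen (constructibleTopologySubbasis Y) s at hs
  induction hs with
  | basic t ht =>
    rcases ht with ⟨ho, hc⟩ | ⟨ho, hc⟩
    · exact (hc.image j.continuous).isOpen_constructibleTopology_of_isOpen (j.isOpenEmbedding.isOpenMap _ ho)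
    · have h1 : IsOpen[τ X] (j '' tᶜ)ᶜ := IsCompact.isOpen_constructibleTopology_of_isClosed
        (by rw [compl_compl]; exact hc.image j.continuous) (j.isOpenEmbedding.isOpenMap _ ho.isOpen_compl).isClosed_compl
      have : j '' t = Set.range j ∩ (j '' tᶜ)ᶜ := by
        ext x
        constructor
        · rintro ⟨y, hy, rfl⟩
          exact ⟨⟨y, rfl⟩, fun ⟨y', hy', e⟩ => hy' (j.isOpenEmbedding.injective e ▸ hy)⟩
        · rintro ⟨⟨y, rfl⟩, hx⟩
          exact ⟨y, by_contra fun h => hx ⟨y, h, rfl⟩, rfl⟩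
      rw [this]
      exact @IsOpen.inter X (τ X) _ _ hrτ h1
  | univ => rwa [Set.image_univ]
  | inter s t _ _ hs ht =>
    rw [Set.image_inter j.isOpenEmbedding.injective]
    exact @IsOpen.inter X (τ X) _ _ hs ht
  | sUnion S _ hS =>
    rw [Set.image_sUnion]
    exact @isOpen_sUnion X (τ X) _ (by rintro _ ⟨t, ht, rfl⟩; exact hS t ht)

/-- A quasi-compact morphism is continuous for the constructible topologies. -/
theorem continuous_of_quasiCompact (f : X ⟶ Y) [QuasiCompact f] : Continuous[τ X, τ Y] f := by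
  refine continuous_generateFrom_iff.2 fun s hs => ?_
  rcases hs with ⟨ho, hc⟩ | ⟨ho, hc⟩
  · exact (f.isCompact_preimage (U := ⟨s, ho⟩) hc).isOpen_constructibleTopology_of_isOpen (ho.preimage f.continuous)
  · exact IsCompact.isOpen_constructibleTopology_of_isClosed
      (f.isCompact_preimage (U := ⟨sᶜ, ho.isOpen_compl⟩) hc) (ho.preimage f.continuous)

theorem quasiCompact_fromSpec [QuasiSeparatedSpace X] {U : X.Opens} (hU : IsAffineOpen U) :
    QuasiCompact hU.fromSpec :=
  QuasiCompact.of_comp hU.fromSpec (Limits.terminal.from X)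

theorem isLocallyConstructible_iff_isClopen [QuasiSeparatedSpace X] {E : Set X} :
    IsLocallyConstructible E ↔ IsOpen[τ X] E ∧ IsClosed[τ X] E := by
  constructor
  · intro h
    suffices H : ∀ s : Set X, IsLocallyConstructible s → IsOpen[τ X] s from
      ⟨H E h, @IsClosed.mk X (τ X) E (H _ (fun x => by
        obtain ⟨V, hVx, hV, hVE⟩ := h x
        exact ⟨V, hVx, hV, by rw [Set.preimage_compl]; exact isConstructible_compl.2 hVE⟩))⟩
    intro s hs
    refine (@isOpen_iff_forall_mem_open X (τ X) s).2 fun p hp => ?_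
    obtain ⟨W, hW, hpW, -⟩ := exists_isAffineOpen_mem_and_subset (X := X) (x := p) (U := ⊤) trivial
    refine ⟨hW.fromSpec '' (hW.fromSpec ⁻¹' s), Set.image_preimage_subset _ _,
      isOpen_image_of_compact_range hW.fromSpec (isOpen_of_isConstructible
        (hs.preimage_of_isOpenEmbedding hW.fromSpec.isOpenEmbedding).isConstructible), ?_⟩
    obtain ⟨q, rfl⟩ : p ∈ Set.range hW.fromSpec := by rw [hW.range_fromSpec]; exact hpW
    exact ⟨q, hp, rfl⟩
  · rintro ⟨ho, hc⟩
    refine isLocallyConstructible_iff.2 ⟨isIndConstructible_of_forall_affine fun U hU => ?_,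
      isProConstructible_of_forall_affine fun U hU => ?_⟩
    · have := quasiCompact_fromSpec hU
      exact isIndConstructible_iff_isOpen.2 (@IsOpen.preimage _ _ (τ _) (τ X) _ (continuous_of_quasiCompact hU.fromSpec) _ ho)
    · have := quasiCompact_fromSpec hU
      exact isProConstructible_iff_isClosed.2 (@IsClosed.preimage _ _ (τ _) (τ X) _ (continuous_of_quasiCompact hU.fromSpec) _ hc)

theorem isCompact_fromSpec_range [QuasiSeparatedSpace X] {U : X.Opens} (hU : IsAffineOpen U) :
    @IsCompact X (τ X) (U : Set X) := by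
  have := quasiCompact_fromSpec hU
  have h := @isCompact_range _ X (τ _) (τ X) compactSpace_top _ (continuous_of_quasiCompact hU.fromSpec)
  rwa [hU.range_fromSpec] at h

theorem t2Space_top' : @T2Space X (τ X) := by
  refine @T2Space.mk X (τ X) fun x y hxy => ?_
  obtain ⟨U, hU, hU'⟩ := exists_isOpen_xor'_mem hxy
  rcases hU' with ⟨hx, hy⟩ | ⟨hy, hx⟩
  · obtain ⟨V, ⟨hVo, hVc⟩, hxV, hVU⟩ := PrespectralSpace.isTopologicalBasis.exists_subset_of_mem_open hx hU
    exact ⟨V, Vᶜ, hVc.isOpen_constructibleTopology_of_isOpen hVo,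
      IsCompact.isOpen_constructibleTopology_of_isClosed (by rwa [compl_compl]) hVo.isClosed_compl,
      hxV, fun h => hy (hVU h), disjoint_compl_right⟩
  · obtain ⟨V, ⟨hVo, hVc⟩, hyV, hVU⟩ := PrespectralSpace.isTopologicalBasis.exists_subset_of_mem_open hy hU
    exact ⟨Vᶜ, V, IsCompact.isOpen_constructibleTopology_of_isClosed (by rwa [compl_compl]) hVo.isClosed_compl,
      hVc.isOpen_constructibleTopology_of_isOpen hVo, fun h => hx (hVU h), hyV, disjoint_compl_left⟩

theorem totallyDisconnected_top' : @TotallyDisconnectedSpace X (τ X) := by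
  letI t₀ : TopologicalSpace X := inferInstance
  have key : ∀ x y : X, x ≠ y → ∃ U : Set X, IsOpen[τ X] U ∧ IsOpen[τ X] Uᶜ ∧ x ∈ U ∧ y ∉ U := by
    intro x y hxy
    obtain ⟨U, hU, hU'⟩ := exists_isOpen_xor'_mem hxy
    rcases hU' with ⟨hx, hy⟩ | ⟨hy, hx⟩
    · obtain ⟨V, ⟨hVo, hVc⟩, hxV, hVU⟩ := PrespectralSpace.isTopologicalBasis.exists_subset_of_mem_open hx hU
      exact ⟨V, hVc.isOpen_constructibleTopology_of_isOpen hVo,
        IsCompact.isOpen_constructibleTopology_of_isClosed (by rwa [compl_compl]) hVo.isClosed_compl, hxV, fun h => hy (hVU h)⟩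
    · obtain ⟨V, ⟨hVo, hVc⟩, hyV, hVU⟩ := PrespectralSpace.isTopologicalBasis.exists_subset_of_mem_open hy hU
      exact ⟨Vᶜ, IsCompact.isOpen_constructibleTopology_of_isClosed (by rwa [compl_compl]) hVo.isClosed_compl,
        by rw [compl_compl]; exact hVc.isOpen_constructibleTopology_of_isOpen hVo, fun h => hx (hVU h), fun h => h hyV⟩
  letI := τ X
  haveI : TotallySeparatedSpace X := totallySeparatedSpace_iff_exists_isClopen.2 fun x y hxy => by
    obtain ⟨U, hU, hU', hx, hy⟩ := key x y hxy
    exact ⟨U, ⟨⟨hU'⟩, hU⟩, hx, hy⟩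
  infer_instance

theorem locallyCompact_top' [QuasiSeparatedSpace X] : @LocallyCompactSpace X (τ X) := by
  have key : ∀ x : X, ∃ U : Set X, @IsCompact X (τ X) U ∧ IsOpen[τ X] U ∧ x ∈ U := by
    intro x
    obtain ⟨W, hW, hpW, -⟩ := exists_isAffineOpen_mem_and_subset (X := X) (x := x) (U := ⊤) trivial
    exact ⟨W, isCompact_fromSpec_range hW, hW.isCompact.isOpen_constructibleTopology_of_isOpen W.2, hpW⟩
  have h2 := t2Space_top' (X := X)
  letI := τ X
  haveI := h2
  haveI : WeaklyLocallyCompactSpace X := ⟨fun x => by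
    obtain ⟨U, hc, ho, hx⟩ := key x
    exact ⟨U, hc, ho.mem_nhds hx⟩⟩
  infer_instance

/-- Quasi-compactness as properness for the constructible topologies. -/
theorem quasiCompact_iff_isProperMap [QuasiSeparatedSpace X] [QuasiSeparatedSpace Y] (f : X ⟶ Y) :
    QuasiCompact f ↔ @IsProperMap X Y (τ X) (τ Y) f := by
  have h2 := t2Space_top' (X := Y)
  have hlc := locallyCompact_top' (X := Y)
  have hfine : ∀ (Z : Scheme.{u}) (s : Set Z), IsOpen s → IsOpen[τ Z] s := fun Z s hs => by
    obtain ⟨S, hS, rfl⟩ := PrespectralSpace.isTopologicalBasis.open_eq_sUnion hs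
    exact @isOpen_sUnion Z (τ Z) _ fun t ht => (hS ht).2.isOpen_constructibleTopology_of_isOpen (hS ht).1
  constructor
  · intro hf
    have hcont := continuous_of_quasiCompact f
    refine (@isProperMap_iff_isCompact_preimage X Y (τ X) (τ Y) h2 (@CompactlyCoherentSpace.of_weaklyLocallyCompactSpace Y (τ Y) (@WeaklyLocallyCompactSpace.mk Y (τ Y) fun y => ?_)) f).2
      ⟨hcont, fun K hK => ?_⟩
    · obtain ⟨W, hW, hpW, -⟩ := exists_isAffineOpen_mem_and_subset (X := Y) (x := y) (U := ⊤) trivial
      exact ⟨W, isCompact_fromSpec_range hW,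
        @IsOpen.mem_nhds Y (τ Y) _ _ (hfine _ _ W.2) hpW⟩
    · obtain ⟨t, ht⟩ := @IsCompact.elim_finite_subcover Y (τ Y) K _ hK (fun U : Y.affineOpens => (U.1 : Set Y))
        (fun U => hfine _ _ U.1.2) fun y _ => by
          obtain ⟨U, hU, hxU, -⟩ := exists_isAffineOpen_mem_and_subset (X := Y) (x := y) (U := ⊤) trivial
          exact Set.mem_iUnion.2 ⟨⟨U, hU⟩, hxU⟩
      have hVo : IsOpen (⋃ U ∈ t, (U.1 : Set Y)) := isOpen_biUnion fun U _ => U.1.2
      have hVc : IsCompact (f ⁻¹' ⋃ U ∈ t, (U.1 : Set Y)) :=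
        f.isCompact_preimage (U := ⟨_, hVo⟩) (t.finite_toSet.isCompact_biUnion fun U _ => U.2.isCompact)
      obtain ⟨s, hs, hV⟩ := (isCompact_and_isOpen_iff_finite_and_eq_biUnion_affineOpens (X := X)).1
        ⟨hVc, hVo.preimage f.continuous⟩
      have hVτ : @IsCompact X (τ X) (f ⁻¹' ⋃ U ∈ t, (U.1 : Set Y)) := by
        rw [hV]
        exact @Set.Finite.isCompact_biUnion X _ (τ X) s (fun U : X.affineOpens => (U.1 : Set X)) hs fun U _ => isCompact_fromSpec_range U.2
      have hKc : IsClosed[τ Y] K := @IsCompact.isClosed Y (τ Y) h2 _ hK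
      exact @IsCompact.of_isClosed_subset X (τ X) _ _ hVτ
        (@IsClosed.preimage X Y (τ X) (τ Y) _ hcont _ hKc) (Set.preimage_mono ht)
  · intro hp
    refine quasiCompact_iff_forall_isAffineOpen.2 fun U hU => ?_
    have hK := @IsProperMap.isCompact_preimage X Y (τ X) (τ Y) _ hp _ (isCompact_fromSpec_range hU)
    rw [isCompact_iff_finite_subcover]
    intro ι V hVo hsub
    exact @IsCompact.elim_finite_subcover X (τ X) _ ι hK V (fun i => hfine _ _ (hVo i)) hsub

end Groth.Agent.ConsTop3
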